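import Mathlib

/-!
Row vector times matrix over the field with seven elements, computed on packed rows.
-/

set_option autoImplicit false

namespace Cfsg.Agent.Lib.ON45

/-- lane base -/
def laneBase : ℕ := 65536

/-- pack a list of lanes -/
def packRow : List ℕ → ℕ
  | [] => 0
  | a :: l => a + laneBase * packRow l

/-- read `k` lanes modulo seven -/
def unpackRow : ℕ → ℕ → List ℕ
  | 0, _ => []
  | k + 1, n => n % laneBase % 7 :: unpackRow k (n / laneBase)

/-- combination of packed rows -/
def packDot : List ℕ → List ℕ → ℕ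
  | [], _ => 0
  | _ :: _, [] => 0
  | a :: v, r :: rs => a * r + packDot v rs

/-- scale and add -/
def axpy (a : ℕ) : List ℕ → List ℕ → List ℕ
  | [], l => l
  | x :: r, [] => a * x :: axpy a r []
  | x :: r, y :: l => (a * x + y) :: axpy a r l

/-- combination of rows -/
def combRows : List ℕ → List (List ℕ) → List ℕ
  | [], _ => []
  | _ :: _, [] => []
  | a :: v, r :: rs => axpy a r (combRows v rs)

theorem packRow_axpy (a : ℕ) : ∀ r l, packRow (axpy a r l) = a * packRow r + packRow l
  | [], l => by simp [axpy, packRow]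
  | x :: r, [] => by simp [axpy, packRow, packRow_axpy a r []]; ring
  | x :: r, y :: l => by simp [axpy, packRow, packRow_axpy a r l]; ring

theorem packDot_eq : ∀ v rs, packDot v (List.map packRow rs) = packRow (combRows v rs)
  | [], _ => by simp [packDot, combRows, packRow]
  | _ :: _, [] => by simp [packDot, combRows, packRow]
  | a :: v, r :: rs => by simp [packDot, combRows, packRow_axpy, packDot_eq v rs]

theorem getD_axpy (a : ℕ) : ∀ r l i, (axpy a r l).getD i 0 = a * r.getD i 0 + l.getD i 0
  | [], l, i => by simp [axpy]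
  | x :: r, [], 0 => by simp [axpy]
  | x :: r, [], i + 1 => by simpa [axpy] using getD_axpy a r [] i
  | x :: r, y :: l, 0 => by simp [axpy]
  | x :: r, y :: l, i + 1 => by simpa [axpy] using getD_axpy a r l i

theorem length_axpy (a : ℕ) : ∀ r l, (axpy a r l).length = max r.length l.length
  | [], l => by simp [axpy]
  | x :: r, [] => by simp [axpy, length_axpy a r []]
  | x :: r, y :: l => by simp [axpy, length_axpy a r l]

theorem getD_combRows (i : ℕ) : ∀ v rs, (combRows v rs).getD i 0 =
    ∑ j ∈ Finset.range v.length, v.getD j 0 * (rs.getD j []).getD i 0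
  | [], _ => by simp [combRows]
  | a :: v, [] => by simp [combRows]
  | a :: v, r :: rs => by
    rw [List.length_cons, Finset.sum_range_succ', combRows, getD_axpy, getD_combRows i v rs]
    simp [add_comm]

theorem unpackRow_packRow : ∀ k l, (∀ i, l.getD i 0 < laneBase) →
    ∀ i, i < k → (unpackRow k (packRow l)).getD i 0 = l.getD i 0 % 7
  | 0, _, _, i, hi => absurd hi (Nat.not_lt_zero i)
  | k + 1, [], h, 0, _ => by simp [packRow, unpackRow]
  | k + 1, [], h, i + 1, hi => by
    simpa [packRow, unpackRow] using unpackRow_packRow k [] (by simp [laneBase]) i (by omega)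
  | k + 1, a :: l, h, i, hi => by
    have ha : a < laneBase := by simpa using h 0
    have e1 : packRow (a :: l) % laneBase = a := by
      rw [packRow, Nat.add_mul_mod_self_left, Nat.mod_eq_of_lt ha]
    have e2 : packRow (a :: l) / laneBase = packRow l := by
      rw [packRow, Nat.add_mul_div_left _ _ (by simp [laneBase]), Nat.div_eq_of_lt ha, zero_add]
    rw [unpackRow, e1, e2]
    cases i with
    | zero => simp
    | succ i =>
      simpa using unpackRow_packRow k l (fun j => by simpa using h (j + 1)) i (by omega)

theorem length_unpackRow : ∀ k n, (unpackRow k n).length = k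
  | 0, _ => rfl
  | k + 1, n => by simp [unpackRow, length_unpackRow k]

theorem getD_unpackRow_lt : ∀ k n i, (unpackRow k n).getD i 0 < 7
  | 0, _, i => by simp [unpackRow]
  | k + 1, n, 0 => by simp [unpackRow]; omega
  | k + 1, n, i + 1 => by simpa [unpackRow] using getD_unpackRow_lt k (n / laneBase) i

/-- all rows short and with small entries, and the packed rows agree with them -/
def rowsOK (rs : List (List ℕ)) (ps : List ℕ) : Bool :=
  Nat.beq rs.length 45 && (rs.all fun r => r.all fun x => Nat.blt x 7) && decide (ps = rs.map packRow)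

/-- the matrix given by rows -/
def matOf (rs : List (List ℕ)) : Matrix (Fin 45) (Fin 45) (ZMod 7) :=
  fun i j => ((rs.getD i.1 []).getD j.1 0 : ℕ)

/-- the vector given by a list -/
def vecOf (v : List ℕ) : Fin 45 → ZMod 7 := fun j => (v.getD j.1 0 : ℕ)

/-- one step on a vector -/
def vstep (ps v : List ℕ) : List ℕ := unpackRow 45 (packDot v ps)

theorem vecOf_vstep {rs : List (List ℕ)} {ps : List ℕ} (h : rowsOK rs ps = true) {v : List ℕ}
    (hv : v.length = 45) (hb : ∀ i, v.getD i 0 < 7) :
    vecOf (vstep ps v) = Matrix.vecMul (vecOf v) (matOf rs) := by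
  simp only [rowsOK, Bool.and_eq_true, decide_eq_true_eq] at h
  obtain ⟨⟨_, hall⟩, hps⟩ := h
  have hsmall : ∀ j i, (rs.getD j []).getD i 0 < 7 := by
    intro j i
    by_cases hj : j < rs.length
    · rw [List.getD_eq_getElem _ _ hj]
      by_cases hi : i < rs[j].length
      · rw [List.getD_eq_getElem _ _ hi]
        have := List.all_eq_true.1 hall _ (List.getElem_mem hj)
        have := List.all_eq_true.1 this _ (List.getElem_mem hi)
        exact Nat.blt_eq.mp this
      · rw [List.getD_eq_default _ _ (by omega)]; omega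
    · rw [List.getD_eq_default rs _ (by omega)]; simp
  subst hps
  funext c
  rw [vecOf, vstep, packDot_eq, unpackRow_packRow 45 _ (fun i => ?_) _ c.2, getD_combRows, hv]
  · rw [ZMod.natCast_mod, Nat.cast_sum, Finset.sum_range]
    simp [Matrix.vecMul, dotProduct, vecOf, matOf]
  · rw [getD_combRows, hv]
    calc ∑ j ∈ Finset.range 45, v.getD j 0 * (rs.getD j []).getD i 0
        ≤ ∑ j ∈ Finset.range 45, 7 * 7 :=
          Finset.sum_le_sum fun j _ => Nat.mul_le_mul (hb j).le (hsmall j i).le
      _ < laneBase := by simp [laneBase]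

/-- unit vector scaled -/
def unitRow (l r : ℕ) : List ℕ := (List.range 45).map fun i => bif Nat.beq i r then l else 0

/-- a word multiplies to the scalar `l` -/
def wordScalar (rs : ℕ → List ℕ) (l : ℕ) (w : List ℕ) : Bool :=
  (List.range 45).all fun r => decide (w.foldl (fun v k => vstep (rs k) v) (unitRow 1 r) = unitRow l r)

theorem vecOf_foldl {R : ℕ → List (List ℕ)} {P : ℕ → List ℕ} (h : ∀ k, rowsOK (R k) (P k) = true) :
    ∀ (w : List ℕ) (v : List ℕ), v.length = 45 → (∀ i, v.getD i 0 < 7) →
      vecOf (w.foldl (fun u k => vstep (P k) u) v) = Matrix.vecMul (vecOf v) (w.map fun k => matOf (R k)).prod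
  | [], v, _, _ => by simp
  | k :: w, v, hv, hb => by
    rw [List.foldl_cons, vecOf_foldl h w (vstep (P k) v) (length_unpackRow _ _) (getD_unpackRow_lt _ _),
      vecOf_vstep (h k) hv hb, Matrix.vecMul_vecMul, List.map_cons, List.prod_cons]

theorem getD_unitRow (l r i : ℕ) : (unitRow l r).getD i 0 = if i < 45 ∧ i = r then l else 0 := by
  unfold unitRow
  by_cases h : i < 45
  · rw [List.getD_eq_getElem _ _ (by simpa using h)]
    by_cases e : i = r
    · subst e; simp [h]
    · have hb : Nat.beq i r = false := by rw [Bool.eq_false_iff]; exact fun hh => e (Nat.eq_of_beq_eq_true hh)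
      simp [h, e, hb]
  · rw [List.getD_eq_default _ _ (by simpa using h)]; simp [h]

theorem vecOf_unitRow (l : ℕ) (r : Fin 45) :
    vecOf (unitRow l r.1) = (l : ZMod 7) • (Pi.single r 1 : Fin 45 → ZMod 7) := by
  funext j
  simp only [vecOf, getD_unitRow, j.2, true_and, Pi.smul_apply, smul_eq_mul, Pi.single_apply,
    Fin.ext_iff]
  split <;> simp

theorem prod_eq_of_wordScalar {R : ℕ → List (List ℕ)} {P : ℕ → List ℕ}
    (h : ∀ k, rowsOK (R k) (P k) = true) {l : ℕ} {w : List ℕ} (hw : wordScalar P l w = true) :
    (w.map fun k => matOf (R k)).prod = (l : ZMod 7) • (1 : Matrix (Fin 45) (Fin 45) (ZMod 7)) := by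
  refine Matrix.ext_of_single_vecMul fun r => ?_
  have := List.all_eq_true.1 hw r.1 (List.mem_range.2 r.2)
  simp only [decide_eq_true_eq] at this
  have e := congrArg vecOf this
  rw [vecOf_foldl h w _ (by simp [unitRow]) (fun i => by rw [getD_unitRow]; split <;> omega),
    vecOf_unitRow, vecOf_unitRow, Nat.cast_one, one_smul] at e
  rw [e, Matrix.vecMul_smul, Matrix.vecMul_one]

end Cfsg.Agent.Lib.ON45
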