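import Mathlib
import Cfsg.Agent.Lib.ON45.Packed
import Cfsg.Agent.Lib.ON45.Data
import Cfsg.Agent.Lib.CosetTable.ONPres.Rels

/-!
The 45-dimensional projective representation of O'N over the field with seven elements, lifted to the
special linear group.
-/

set_option autoImplicit false

namespace Cfsg.Agent.Lib.ON45

open Cfsg.Agent.Lib.CosetTable

theorem rows_ok_fin : ∀ k : Fin 7, rowsOK (rowsOf k) (packedOf k) = true := by decide +kernel

theorem rows_ok (k : ℕ) : rowsOK (rowsOf k) (packedOf k) = true := by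
  match k with
  | 0 => exact rows_ok_fin 0
  | 1 => exact rows_ok_fin 1
  | 2 => exact rows_ok_fin 2
  | 3 => exact rows_ok_fin 3
  | 4 => exact rows_ok_fin 4
  | 5 => exact rows_ok_fin 5
  | 6 => exact rows_ok_fin 6
  | _ + 7 => exact rows_ok_fin 6

/-- the matrices -/
def mat (k : ℕ) : Matrix (Fin 45) (Fin 45) (ZMod 7) := matOf (rowsOf k)

theorem mat_rel {l : ℕ} {w : List ℕ} (h : wordScalar packedOf l w = true) :
    (w.map mat).prod = (l : ZMod 7) • (1 : Matrix (Fin 45) (Fin 45) (ZMod 7)) :=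
  prod_eq_of_wordScalar (R := rowsOf) rows_ok h

theorem rel_check : (ONPres.relW.all fun w => wordScalar packedOf 1 w || wordScalar packedOf 4 w) = true := by
  decide +kernel

theorem sq_check : ((List.range 7).all fun k => wordScalar packedOf 1 [k, k]) = true := by decide +kernel

theorem rel_scalar {w : List ℕ} (hw : w ∈ ONPres.relW) :
    ∃ l : ZMod 7, (l = 1 ∨ l = 4) ∧ (w.map mat).prod = l • (1 : Matrix (Fin 45) (Fin 45) (ZMod 7)) := by
  have h := List.all_eq_true.1 rel_check w hw
  rcases Bool.or_eq_true _ _ ▸ h with h | h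
  · exact ⟨1, Or.inl rfl, by simpa using mat_rel h⟩
  · exact ⟨4, Or.inr rfl, by simpa using mat_rel h⟩

/-- the determinant of a product of the matrices along a relator -/
theorem det_rel {w : List ℕ} (hw : w ∈ ONPres.relW) : (w.map fun k => (mat k).det).prod = 1 := by
  obtain ⟨l, hl, h⟩ := rel_scalar hw
  have e := congrArg Matrix.det h
  rw [Matrix.det_smul, Matrix.det_one, mul_one, Fintype.card_fin,
    ← Matrix.coe_detMonoidHom, map_list_prod, List.map_map] at e
  refine e.trans ?_
  rcases hl with rfl | rfl <;> decide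

theorem det_pm {i : ℕ} (hi : i < 7) : (mat i).det = 1 ∨ (mat i).det = -1 := by
  have key : ∀ x : ZMod 7, x * x = 1 → x = 1 ∨ x = -1 := by decide
  refine key _ ?_
  have e := congrArg Matrix.det (mat_rel (List.all_eq_true.1 sq_check i (List.mem_range.2 hi)))
  simpa [Matrix.det_mul] using e

theorem det_mat (k : ℕ) : (mat k).det = 1 := by
  have sq : ∀ i, i < 7 → (mat i).det = 1 ∨ (mat i).det = -1 := fun i hi => det_pm hi
  obtain ⟨d, hd⟩ : ∃ d : ℕ → ZMod 7, d = fun k => (mat k).det := ⟨_, rfl⟩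
  have rel : ∀ w, w ∈ ONPres.relW → (w.map d).prod = 1 := fun w hw => by rw [hd]; exact det_rel hw
  have hpm : ∀ i, i < 7 → d i = 1 ∨ d i = -1 := by rw [hd]; exact sq
  have r01 := rel ((List.replicate 3 [0, 1]).flatten) (by decide +kernel)
  have r12 := rel ((List.replicate 3 [1, 2]).flatten) (by decide +kernel)
  have r34 := rel ((List.replicate 3 [3, 4]).flatten) (by decide +kernel)
  have r45 := rel ((List.replicate 3 [4, 5]).flatten) (by decide +kernel)
  have r5 := rel ((List.replicate 5 [1, 3, 2, 6]).flatten) (by decide +kernel)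
  have r6 := rel [2, 6, 1, 2, 6, 3, 2, 3, 1, 3, 2, 3, 2, 6, 1, 2, 6] (by decide +kernel)
  have r7 := rel [3, 6, 4, 3, 6, 3, 2, 3, 2, 3, 4, 3, 2, 3, 2, 6, 4, 3, 6] (by decide +kernel)
  have hall : ∀ i, i < 7 → d i = 1 := by
    have h0 := hpm 0 (by omega)
    have h1 := hpm 1 (by omega)
    have h2 := hpm 2 (by omega)
    have h3 := hpm 3 (by omega)
    have h4 := hpm 4 (by omega)
    have h5 := hpm 5 (by omega)
    have h6 := hpm 6 (by omega)
    simp [List.replicate_succ] at r01 r12 r34 r45 r5 r6 r7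
    have e01 : d 0 = d 1 := by
      rcases h0 with e | e <;> rcases h1 with e' | e' <;> rw [e, e'] at r01 ⊢ <;> revert r01 <;>
        decide +kernel
    have e12 : d 1 = d 2 := by
      rcases h1 with e | e <;> rcases h2 with e' | e' <;> rw [e, e'] at r12 ⊢ <;> revert r12 <;>
        decide +kernel
    have e34 : d 3 = d 4 := by
      rcases h3 with e | e <;> rcases h4 with e' | e' <;> rw [e, e'] at r34 ⊢ <;> revert r34 <;>
        decide +kernel
    have e45 : d 4 = d 5 := by
      rcases h4 with e | e <;> rcases h5 with e' | e' <;> rw [e, e'] at r45 ⊢ <;> revert r45 <;>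
        decide +kernel
    rw [e12] at r5 r6
    rw [← e34] at r7
    have e36 : d 3 = d 6 := by
      rcases h2 with e | e <;> rcases h3 with e' | e' <;> rcases h6 with e'' | e'' <;>
        rw [e, e', e''] at r5 <;> rw [e', e''] <;> revert r5 <;> decide +kernel
    rw [← e36] at r6 r7
    have e2 : d 2 = 1 := by
      rcases h2 with e | e <;> rcases h3 with e' | e' <;> rw [e, e'] at r6 <;> rw [e] <;> revert r6 <;>
        decide +kernel
    have e3 : d 3 = 1 := by
      rcases h3 with e | e <;> rw [e2, e] at r7 <;> rw [e] <;> revert r7 <;> decide +kernel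
    have key : d 0 = 1 ∧ d 1 = 1 ∧ d 2 = 1 ∧ d 3 = 1 ∧ d 4 = 1 ∧ d 5 = 1 ∧ d 6 = 1 :=
      ⟨e01.trans (e12.trans e2), e12.trans e2, e2, e3, e34.symm.trans e3,
        e45.symm.trans (e34.symm.trans e3), e36.symm.trans e3⟩
    obtain ⟨k0, k1, k2, k3, k4, k5, k6⟩ := key
    intro i hi
    interval_cases i <;> assumption
  rw [hd] at hall
  by_cases hk : k < 7
  · exact hall k hk
  · obtain ⟨j, rfl⟩ : ∃ j, k = j + 7 := ⟨k - 7, by omega⟩
    exact hall 6 (by omega)

/-- the lifts in the special linear group -/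
def lift45 (k : ℕ) : Matrix.SpecialLinearGroup (Fin 45) (ZMod 7) := ⟨mat k, det_mat k⟩

theorem coe_prod (w : List ℕ) :
    ((w.map lift45).prod : Matrix.SpecialLinearGroup (Fin 45) (ZMod 7)).1 = (w.map mat).prod := by
  induction w with
  | nil => rfl
  | cons k w ih =>
    rw [List.map_cons, List.prod_cons, List.map_cons, List.prod_cons, ← ih,
      Matrix.SpecialLinearGroup.coe_mul]
    rfl

theorem lift45_sq {k : ℕ} (hk : k < 7) : lift45 k * lift45 k = 1 := by
  refine Subtype.ext ?_
  have := mat_rel (List.all_eq_true.1 sq_check k (List.mem_range.2 hk))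
  rw [Matrix.SpecialLinearGroup.coe_mul, Matrix.SpecialLinearGroup.coe_one]
  show mat k * mat k = 1
  simpa using this

theorem rel_mem_center {w : List ℕ} (hw : w ∈ ONPres.relW) :
    (w.map lift45).prod ∈ Subgroup.center (Matrix.SpecialLinearGroup (Fin 45) (ZMod 7)) := by
  obtain ⟨l, hl, h⟩ := rel_scalar hw
  refine Matrix.SpecialLinearGroup.mem_center_iff.2 ⟨l, ?_, ?_⟩
  · rw [Fintype.card_fin]; rcases hl with rfl | rfl <;> decide
  · rw [coe_prod, h, Matrix.smul_one_eq_diagonal]; rfl

/-- the subgroup generated by the lifts -/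
def cover : Subgroup (Matrix.SpecialLinearGroup (Fin 45) (ZMod 7)) :=
  Subgroup.closure {y | ∃ k, k < 7 ∧ lift45 k = y}

theorem lift_mem {k : ℕ} (hk : k < 7) : lift45 k ∈ cover := Subgroup.subset_closure ⟨k, hk, rfl⟩

theorem exists_quotient_hom :
    ∃ φ : Cfsg.Spor.ON →* Matrix.SpecialLinearGroup (Fin 45) (ZMod 7) ⧸
        Subgroup.center (Matrix.SpecialLinearGroup (Fin 45) (ZMod 7)),
      (∀ k, k < 7 → φ (ONPres.gn k) = QuotientGroup.mk (lift45 k)) ∧
        φ.range = cover.map (QuotientGroup.mk' _) := by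
  let mk := QuotientGroup.mk' (Subgroup.center (Matrix.SpecialLinearGroup (Fin 45) (ZMod 7)))
  have hinv : ONPres.Invol (fun k => mk (lift45 k)) := by
    refine (ONPres.invol_iff fun i hi => ?_).2 fun w hw => ?_
    · show mk (lift45 i) * mk (lift45 i) = 1
      rw [← map_mul, lift45_sq hi, map_one]
    · show (w.map fun k => mk (lift45 k)).prod = 1
      rw [show (w.map fun k => mk (lift45 k)) = (w.map lift45).map mk by rw [List.map_map]; rfl,
        ← map_list_prod]
      exact (QuotientGroup.eq_one_iff _).2 (rel_mem_center hw)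
  obtain ⟨φ, hφ⟩ := ONPres.exists_hom hinv
  refine ⟨φ, hφ, ?_⟩
  rw [MonoidHom.range_eq_map, ← ONPres.gn_gen, cover, MonoidHom.map_closure, MonoidHom.map_closure]
  congr 1
  ext y
  constructor
  · rintro ⟨_, ⟨g, hg, rfl⟩, rfl⟩
    exact ⟨lift45 g, ⟨g, hg, rfl⟩, (hφ g hg).symm⟩
  · rintro ⟨_, ⟨g, hg, rfl⟩, rfl⟩
    exact ⟨ONPres.gn g, ⟨g, hg, rfl⟩, hφ g hg⟩

end Cfsg.Agent.Lib.ON45
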