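import Mathlib
import Cfsg.Prelude.Def_Sporadic
import Cfsg.Prelude.Def_Spor_ON
import Cfsg.Agent.Lib.ON45.Rep

/-!
The triple cover of O'N inside the special linear group of degree 45 over the field with seven elements.
-/

set_option autoImplicit false

namespace Cfsg.Agent.Lib.ON45

open Cfsg.Agent.Lib.CosetTable

local notation "SL45" => Matrix.SpecialLinearGroup (Fin 45) (ZMod 7)

theorem corner_entry : ((((rowsOf 0).getD 0 []).getD 0 0 : ℕ) : ZMod 7) ≠ 1 := by
  decide +kernel

theorem center_bot_of_simple {K : Type*} [Group K] [IsSimpleGroup K] (h : ∃ a b : K, a * b ≠ b * a) :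
    Subgroup.center K = ⊥ := by
  refine (Subgroup.Normal.eq_bot_or_eq_top inferInstance).resolve_right fun htop => ?_
  obtain ⟨a, b, hab⟩ := h
  exact hab ((Subgroup.mem_center_iff.1 (htop ▸ Subgroup.mem_top b : b ∈ Subgroup.center K)) a)

theorem center_bot_ON (hON : Cfsg.IsON Cfsg.Spor.ON) : Subgroup.center Cfsg.Spor.ON = ⊥ := by
  have := hON.1
  refine center_bot_of_simple ?_
  by_contra hc
  push Not at hc
  let _ : CommGroup Cfsg.Spor.ON := { (inferInstance : Group Cfsg.Spor.ON) with mul_comm := hc }
  have hp := IsSimpleGroup.prime_card (α := Cfsg.Spor.ON)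
  rw [hON.2] at hp
  exact absurd hp (by norm_num)

theorem isON_of_equiv {K L : Type*} [Group K] [Group L] (e : K ≃* L) (h : Cfsg.IsON L) : Cfsg.IsON K := by
  have := h.1
  have : Nontrivial K := e.toEquiv.nontrivial
  exact ⟨IsSimpleGroup.isSimpleGroup_of_surjective e.symm.toMonoidHom e.symm.surjective,
    (Nat.card_congr e.toEquiv).trans h.2⟩

theorem card_center_le : Nat.card (Subgroup.center SL45) ≤ 3 := by
  have : Fact (Nat.Prime 7) := ⟨by norm_num⟩
  rw [Nat.card_congr (Matrix.SpecialLinearGroup.center_equiv_rootsOfUnity).toEquiv]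
  have hle : rootsOfUnity (max (Fintype.card (Fin 45)) 1) (ZMod 7) ≤ rootsOfUnity 3 (ZMod 7) := by
    intro u hu
    rw [mem_rootsOfUnity, Fintype.card_fin] at hu
    have h6 : u ^ 6 = 1 := ZMod.units_pow_card_sub_one_eq_one 7 u
    rw [mem_rootsOfUnity]
    simpa [show Nat.gcd (max 45 1) 6 = 3 by decide] using pow_gcd_eq_one.mpr ⟨hu, h6⟩
  exact (Nat.card_le_card_of_injective (Subgroup.inclusion hle) (Subgroup.inclusion_injective hle)).trans
    (card_rootsOfUnity _ _)

/-- a word whose value is the scalar four -/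
def w4 : List ℕ := [2, 6, 1, 2, 6, 3, 2, 3, 1, 3, 2, 3, 2, 6, 1, 2, 6]

theorem w4_check : wordScalar packedOf 4 w4 = true := by decide +kernel

theorem four_pow_three : (4 : ZMod 7) ^ 3 = 1 := by decide +kernel

theorem four_ne_one_seven : (4 : ZMod 7) ≠ 1 := by decide +kernel

theorem exists_triple_cover (hON : Cfsg.IsON Cfsg.Spor.ON) :
    ∃ H : Subgroup SL45, Nat.card (Subgroup.center H) = 3 ∧ Cfsg.IsON (H ⧸ Subgroup.center H) := by
  have : Fact (Nat.Prime 7) := ⟨by norm_num⟩
  obtain ⟨φ, hφ, hrange⟩ := exists_quotient_hom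
  have hsimple := hON.1
  -- the map is injective
  have hinj : Function.Injective φ := by
    rw [← MonoidHom.ker_eq_bot_iff]
    refine (φ.normal_ker.eq_bot_or_eq_top).resolve_right fun htop => ?_
    have h0 : φ (ONPres.gn 0) = 1 := by rw [← MonoidHom.mem_ker, htop]; trivial
    rw [hφ 0 (by omega), QuotientGroup.eq_one_iff] at h0
    have e00 := Matrix.SpecialLinearGroup.scalar_eq_self_of_mem_center h0 0
    have hsq := lift45_sq (k := 0) (by omega)
    obtain ⟨c, hc⟩ : ∃ c, c = (lift45 0).1 0 0 := ⟨_, rfl⟩
    have hc2 : c * c = 1 := by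
      have := congrArg (fun M : SL45 => M.1 0 0) hsq
      simp only [Matrix.SpecialLinearGroup.coe_mul, Matrix.SpecialLinearGroup.coe_one] at this
      rw [← e00, ← map_mul, ← hc] at this
      simpa [Matrix.scalar] using this
    have hcp : c ^ 45 = 1 := by
      have hd := (lift45 0).2
      rw [← e00, ← hc] at hd
      simpa [Matrix.scalar] using hd
    have hc1 : c = 1 := by
      rw [show (45 : ℕ) = 2 * 22 + 1 by norm_num, pow_succ, pow_mul, pow_two, hc2, one_pow,
        one_mul] at hcp
      exact hcp
    exact corner_entry (hc.symm.trans hc1)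
  -- the centre of the cover
  let Z := Subgroup.center SL45
  let ψ : cover →* SL45 ⧸ Z := (QuotientGroup.mk' Z).comp cover.subtype
  have hψker : ψ.ker = Z.subgroupOf cover := by
    ext x
    simp [ψ, MonoidHom.mem_ker, Subgroup.mem_subgroupOf]
  have hψrange : ψ.range = φ.range := by
    rw [hrange, MonoidHom.range_comp, Subgroup.range_subtype]
  obtain ⟨e⟩ : Nonempty (Cfsg.Spor.ON ≃* φ.range) := ⟨MonoidHom.ofInjective hinj⟩
  have hcenter : Subgroup.center cover = ψ.ker := by
    refine le_antisymm (fun x hx => ?_) fun x hx => ?_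
    · let y : φ.range := ⟨ψ x, hψrange ▸ ⟨x, rfl⟩⟩
      have hy : y ∈ Subgroup.center φ.range := by
        rw [Subgroup.mem_center_iff]
        rintro ⟨z, hz⟩
        rw [← hψrange] at hz
        obtain ⟨x', rfl⟩ := hz
        refine Subtype.ext ?_
        show ψ x' * ψ x = ψ x * ψ x'
        rw [← map_mul, ← map_mul, Subgroup.mem_center_iff.1 hx x']
      have hy' : e.symm y ∈ Subgroup.center Cfsg.Spor.ON := by
        rw [Subgroup.mem_center_iff]
        intro g
        have := congrArg e.symm (Subgroup.mem_center_iff.1 hy (e g))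
        simpa using this
      have hbot : Subgroup.center Cfsg.Spor.ON = ⊥ := center_bot_ON hON
      rw [hbot, Subgroup.mem_bot] at hy'
      have h1 : y = 1 := by rw [← e.apply_symm_apply y, hy', map_one]
      exact MonoidHom.mem_ker.2 (congrArg Subtype.val h1)
    · rw [hψker, Subgroup.mem_subgroupOf] at hx
      rw [Subgroup.mem_center_iff]
      exact fun g => Subtype.ext (Subgroup.mem_center_iff.1 hx g)
  refine ⟨cover, le_antisymm ?_ ?_, ?_⟩
  · rw [hcenter, hψker]
    let f : Z.subgroupOf cover → Z := fun x => ⟨x.1.1, x.2⟩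
    refine (Nat.card_le_card_of_injective f fun a b h => ?_).trans card_center_le
    exact Subtype.ext (Subtype.ext (congrArg Subtype.val h :))
  · have hwm : (w4.map lift45).prod ∈ cover := by
      refine Subgroup.list_prod_mem _ fun y hy => ?_
      obtain ⟨k, hk, rfl⟩ := List.mem_map.1 hy
      refine lift_mem ?_
      simp [w4] at hk
      omega
    have hval : (w4.map lift45).prod.1 = (4 : ZMod 7) • (1 : Matrix (Fin 45) (Fin 45) (ZMod 7)) := by
      rw [coe_prod]; simpa using mat_rel w4_check
    have hcen : (w4.map lift45).prod ∈ Z :=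
      rel_mem_center (by decide +kernel)
    let s : Subgroup.center cover := ⟨⟨_, hwm⟩, by rw [hcenter, hψker]; exact hcen⟩
    have hs : orderOf s = 3 := by
      refine orderOf_eq_prime ?_ ?_
      · refine Subtype.ext (Subtype.ext (Subtype.ext ?_))
        show ((w4.map lift45).prod ^ 3).1 = 1
        rw [Matrix.SpecialLinearGroup.coe_pow, hval, smul_pow, one_pow,
          four_pow_three, one_smul]
      · intro h
        have h' := congrArg (fun t : Subgroup.center cover => (t.1.1).1 0 0) h
        simp only [s, hval, Subgroup.coe_one, Matrix.SpecialLinearGroup.coe_one, Matrix.smul_apply,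
          Matrix.one_apply_eq, smul_eq_mul, mul_one] at h'
        exact four_ne_one_seven h'
    have hd : 3 ∣ Nat.card (Subgroup.center cover) := hs ▸ orderOf_dvd_natCard s
    exact Nat.le_of_dvd Nat.card_pos hd
  · have e2 : cover ⧸ Subgroup.center cover ≃* Cfsg.Spor.ON :=
      (QuotientGroup.quotientMulEquivOfEq hcenter).trans
        ((QuotientGroup.quotientKerEquivRange ψ).trans
          ((MulEquiv.subgroupCongr hψrange).trans e.symm))
    exact isON_of_equiv e2 hON

end Cfsg.Agent.Lib.ON45
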